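import Cfsg.Agent.Lib.Helper14.StCC.SectionCore
import Cfsg.Agent.Lib.Helper12.SchurBasic
import Cfsg.Agent.S2395
import Cfsg.Agent.S2397

set_option autoImplicit false

/-! S2400 (architect helper19): the generic assembly.  For one of the seven tabulated types `D` and a
finite field `K`, if every finite central extension of the group presented by (R1), (R2) splits,
then the group presented by (R1)-(R3) is finite and each of its finite stem extensions is an
isomorphism. -/

namespace Cfsg.Agent.Lib.Helper19.S2400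

universe u

open Cfsg Cfsg.Lie Cfsg.Agent.Lib.Helper8.Chev Cfsg.Agent.Lib.Helper14.StCC

/-- the group presented by (R1), (R2) over a finite field is finite: it is a perfect central
extension of the finite Chevalley group (Schur) -/
theorem finite_cover {K : Type u} [Field K] [Finite K] {D : ChevalleyDatum}
    (hD : D ∈ [chevG2, chevB2, chevD4, chevF4, chevE6, chevE7, chevE8])
    (hDK : D ∈ [chevB2, chevG2] → ∃ x : K, x ≠ 0 ∧ x ≠ 1) :
    Finite (D.SteinbergCover K) := by
  classical
  have := Fintype.ofFinite K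
  haveI : Finite ↥(D.group K) := inferInstance
  have hperf : commutator (D.SteinbergCover K) = ⊤ := Cfsg.Agent.S2395.result D hD hDK
  haveI : Finite ↥(commutator (D.SteinbergCover K)) :=
    Cfsg.Agent.Lib.Helper12.Schur.finite_commutator_of_central (scHom hD K)
      (scHom_surjective hD) (scHom_ker_le hD)
  have h : Finite ↥(⊤ : Subgroup (D.SteinbergCover K)) := hperf ▸ this
  exact Finite.of_equiv _ Subgroup.topEquiv.toEquiv

/-- the assembly: sections of all finite central extensions of the cover give the trivial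
multiplier of the group presented by (R1)-(R3) -/
theorem hasCyclicSchur_one_of_section {K : Type u} [Field K] [Finite K] {D : ChevalleyDatum}
    (hD : D ∈ [chevG2, chevB2, chevD4, chevF4, chevE6, chevE7, chevE8])
    (hDK : D ∈ [chevB2, chevG2] → ∃ x : K, x ≠ 0 ∧ x ≠ 1)
    (hsec : ∀ (E : Type u) [Group E] [Finite E] (ψ : E →* D.SteinbergCover K),
      Function.Surjective ψ → ψ.ker ≤ Subgroup.center E →
      ∃ τ : D.SteinbergCover K →* E, ψ.comp τ = MonoidHom.id _) :
    HasCyclicSchurMultiplier (D.SteinbergGroup K) 1 := by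
  classical
  obtain ⟨e, -⟩ := Cfsg.Agent.S2397.result (K := K) D hD hDK
  haveI : Finite (D.SteinbergCover K) := finite_cover hD hDK
  haveI : Finite (D.SteinbergGroup K) := Finite.of_equiv _ e.toEquiv
  refine ⟨⟨D.SteinbergGroup K, inferInstance, inferInstance, MonoidHom.id _, ⟨?_, ?_, ?_⟩, ⟨?_⟩⟩, ?_⟩
  · exact Function.surjective_id
  · rw [MonoidHom.ker_id]; exact bot_le
  · rw [MonoidHom.ker_id]; exact bot_le
  · haveI : Unique ↥(MonoidHom.id (D.SteinbergGroup K)).ker := by
      rw [MonoidHom.ker_id]; infer_instance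
    haveI : Unique (Multiplicative (ZMod 1)) := inferInstanceAs (Unique (Fin 1))
    exact MulEquiv.ofUnique
  · intro Γ' _ _ σ hσ
    obtain ⟨hσs, hσc, hσk⟩ := hσ
    let ψ : Γ' →* D.SteinbergCover K := e.symm.toMonoidHom.comp σ
    have hker : ψ.ker = σ.ker := by
      ext g
      rw [MonoidHom.mem_ker, MonoidHom.mem_ker]
      show e.symm (σ g) = 1 ↔ _
      rw [MulEquiv.map_eq_one_iff]
    have hψ : Function.Surjective ψ := e.symm.surjective.comp hσs
    obtain ⟨τ, hτ⟩ := hsec Γ' ψ hψ (hker ▸ hσc)
    have hbot : σ.ker = ⊥ := by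
      rw [← hker]
      exact ker_eq_bot_of_section ψ (hker ▸ hσc) (hker ▸ hσk) τ hτ
    refine ⟨1, ?_⟩
    intro z
    refine ⟨1, ?_⟩
    apply Subtype.ext
    have h1 : (z : Γ') ∈ σ.ker := z.2
    have h2 : (z : Γ') ∈ (⊥ : Subgroup Γ') := hbot ▸ h1
    rw [Subgroup.mem_bot] at h2
    rw [h2]; rfl

end Cfsg.Agent.Lib.Helper19.S2400
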